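import Groth.Agent.GITLib.TorsorSchMore
import Groth.Prelude.Def_ActBC
import Mathlib.AlgebraicGeometry.Artinian
import Mathlib.AlgebraicGeometry.Noetherian
import Mathlib.AlgebraicGeometry.Morphisms.Flat
import Mathlib.AlgebraicGeometry.Morphisms.Finite

/-!
# Fibre products of torsors under finite group schemes over a field
-/

set_option autoImplicit false
set_option linter.style.haveILetI false

universe u

open CategoryTheory CategoryTheory.Limits MonoidalCategory CartesianMonoidalCategory MonObj AlgebraicGeometry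

namespace Groth.Agent.PrincFP

open Groth.Agent.GITLib

variable {k : Type u} [Field k] {X : Scheme.{u}} (p : X ⟶ Spec (CommRingCat.of k))

theorem discreteTopology_finite (G : Over (Spec (CommRingCat.of k))) [IsFinite G.hom] :
    DiscreteTopology G.left := by
  haveI : IsAffine G.left := isAffine_of_isAffineHom G.hom
  have h : G.hom.appTop.hom.Finite := G.hom.finite_appTop
  have h' := h.comp (RingHom.Finite.of_surjective _
    (Scheme.ΓSpecIso (CommRingCat.of k)).commRingCatIsoToRingEquiv.symm.surjective)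
  letI : Algebra k Γ(G.left, ⊤) := RingHom.toAlgebra
    (G.hom.appTop.hom.comp (Scheme.ΓSpecIso (CommRingCat.of k)).commRingCatIsoToRingEquiv.symm.toRingHom)
  haveI : Module.Finite k Γ(G.left, ⊤) := h'
  haveI : IsArtinianRing Γ(G.left, ⊤) := IsArtinianRing.of_finite k _
  haveI : IsLocallyArtinian (Spec Γ(G.left, ⊤)) := Scheme.isLocallyArtinianScheme_Spec.mpr inferInstance
  haveI : IsLocallyArtinian G.left := .of_isImmersion G.left.isoSpec.hom
  infer_instance

theorem finite_lfp_flat (G : Over (Spec (CommRingCat.of k))) [IsFinite G.hom] :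
    Flat G.hom ∧ LocallyOfFinitePresentation G.hom := by
  refine ⟨?_, ?_⟩
  · infer_instance
  · rw [LocallyOfFinitePresentation.iff_locallyOfFiniteType]
    infer_instance

variable {G : Over (Spec (CommRingCat.of k))} [GrpObj G] [IsFinite G.hom] {T : Over X}
  {a : AlgGrp.Action (Red.bc p G) T}

theorem torsor_props (h : NonAbH1.IsTorsorFor Scheme.fppfPrecoverage a) :
    IsFinite T.hom ∧ Flat T.hom ∧ LocallyOfFinitePresentation T.hom := by
  have hq := isTorsorFor_mono Scheme.fppfPrecoverage_le_fpqcPrecoverage h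
  haveI := (finite_lfp_flat G).1
  haveI := (finite_lfp_flat G).2
  haveI : MorphismProperty.DescendsAlong @IsFinite.{u} AlgSpCov.Fpqc := FpqcDesc.descendsAlong_isFinite
  exact ⟨property_of_torsor @IsFinite hq (MorphismProperty.pullback_snd _ _ inferInstance),
    property_of_torsor @Flat hq (MorphismProperty.pullback_snd _ _ inferInstance),
    property_of_torsor @LocallyOfFinitePresentation hq (MorphismProperty.pullback_snd _ _ inferInstance)⟩

variable {G₁ G₂ : Over (Spec (CommRingCat.of k))} [GrpObj G₁] [GrpObj G₂] [IsFinite G₁.hom] [IsFinite G₂.hom]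
  (φ₁ : G₁ ⟶ G) (φ₂ : G₂ ⟶ G) [IsMonHom φ₁] [IsMonHom φ₂]
  {T₁ T₂ : Over X} {a₁ : AlgGrp.Action (Red.bc p G₁) T₁} {a₂ : AlgGrp.Action (Red.bc p G₂) T₂}
  {f₁ : T₁ ⟶ T} {f₂ : T₂ ⟶ T}

omit [IsFinite G.hom] [IsFinite G₁.hom] in
/-- An equivariant morphism on points. -/
theorem equivariant_pt (hf₁ : AlgGrp.Action.IsEquivariant a₁ (a.restrict ((Over.pullback p).map φ₁)) f₁)
    {V : Over X} (g : V ⟶ Red.bc p G₁) (v : V ⟶ T₁) :
    (lift g v ≫ a₁.act) ≫ f₁ = lift (g ≫ (Over.pullback p).map φ₁) (v ≫ f₁) ≫ a.act := by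
  rw [Category.assoc, hf₁, lift_whiskerLeft_assoc, AlgGrp.Action.lift_restrict_act]

/-- The fibre product of pointed torsors maps onto the connected base. -/
theorem surjective_pullback [ConnectedSpace X] (hT : NonAbH1.IsTorsorFor Scheme.fppfPrecoverage a)
    (hT₁ : NonAbH1.IsTorsorFor Scheme.fppfPrecoverage a₁) (hT₂ : NonAbH1.IsTorsorFor Scheme.fppfPrecoverage a₂)
    (hf₁ : AlgGrp.Action.IsEquivariant a₁ (a.restrict ((Over.pullback p).map φ₁)) f₁)
    (hf₂ : AlgGrp.Action.IsEquivariant a₂ (a.restrict ((Over.pullback p).map φ₂)) f₂)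
    {K : Over X} [Nonempty K.left] (t₁ : K ⟶ T₁) (t₂ : K ⟶ T₂) (ht : t₁ ≫ f₁ = t₂ ≫ f₂) :
    Surjective (pullback f₁ f₂).hom := by
  classical
  obtain ⟨_, _, _⟩ := torsor_props p hT₁
  obtain ⟨_, _, _⟩ := torsor_props p hT₂
  obtain ⟨_, _, _⟩ := torsor_props p hT
  -- the difference
  let V := T₁ ⊗ T₂
  obtain ⟨δ, hδ, -⟩ := existsUnique_diff hT.1 (snd T₁ T₂ ≫ f₂) (fst T₁ T₂ ≫ f₁)
  let δG : V.left ⟶ G.left := δ.left ≫ pullback.fst G.hom p
  let m : G₁ ⊗ G₂ ⟶ G := (fst G₁ G₂ ≫ φ₁) * (snd G₁ G₂ ≫ φ₂)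
  let O : Set V.left := δG.base ⁻¹' Set.range m.left.base
  haveI := discreteTopology_finite G
  have hO : IsOpen O := (isOpen_discrete _).preimage δG.continuous
  let W := pullback f₁ f₂
  let c : W ⟶ V := lift (pullback.fst f₁ f₂) (pullback.snd f₁ f₂)
  -- the image of `O` is the image of the fibre product
  have himage : V.hom.base '' O = Set.range W.hom.base := by
    refine Set.Subset.antisymm ?_ ?_
    · rintro _ ⟨v, ⟨z, hz⟩, rfl⟩
      obtain ⟨w, -, hw⟩ := Scheme.Pullback.exists_preimage_pullback (f := m.left) (g := δG) z v hz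
      let V' : Over X := Over.mk (pullback.snd m.left δG ≫ V.hom)
      let v' : V' ⟶ V := Over.homMk (pullback.snd m.left δG) rfl
      let h : (Over.map p).obj V' ⟶ G₁ ⊗ G₂ := Over.homMk (pullback.fst m.left δG) (by
        show pullback.fst m.left δG ≫ (G₁ ⊗ G₂).hom = (pullback.snd m.left δG ≫ V.hom) ≫ p
        rw [← Over.w m, pullback.condition_assoc]
        refine Eq.trans ?_ (Category.assoc _ _ _).symm
        refine congrArg (fun z => pullback.snd m.left δG ≫ z) ?_
        show (δ.left ≫ pullback.fst G.hom p) ≫ G.hom = _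
        rw [Category.assoc, pullback.condition, ← Category.assoc]
        exact congrArg (· ≫ p) (Over.w δ))
      let he := fun (Z : Over (Spec (CommRingCat.of k))) => (Over.mapPullbackAdj p).homEquiv V' Z
      let g₁ := he G₁ (h ≫ fst G₁ G₂)
      let g₂ := he G₂ (h ≫ snd G₁ G₂)
      have hg : v' ≫ δ = (g₁ ≫ (Over.pullback p).map φ₁) * (g₂ ≫ (Over.pullback p).map φ₂) := by
        simp only [g₁, g₂, he, ← Adjunction.homEquiv_naturality_right, ← AlgGrp.Action.homEquiv_mul, Category.assoc,
          ← MonObj.comp_mul]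
        refine ((Over.mapPullbackAdj p).homEquiv V' G).symm.injective ?_
        rw [Equiv.symm_apply_apply]
        refine Over.OverMorphism.ext ?_
        show _ = pullback.fst m.left δG ≫ m.left
        rw [pullback.condition]
        simp [Adjunction.homEquiv_counit, Over.mapPullbackAdj, v', δG]
      let x₁ := lift g₁⁻¹ (v' ≫ fst T₁ T₂) ≫ a₁.act
      let x₂ := lift g₂ (v' ≫ snd T₁ T₂) ≫ a₂.act
      have hx : x₁ ≫ f₁ = x₂ ≫ f₂ := by
        simp only [x₁, x₂]
        rw [equivariant_pt p φ₁ hf₁, equivariant_pt p φ₂ hf₂, GrpObj.inv_comp, Category.assoc, Category.assoc,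
          ← show lift δ (snd T₁ T₂ ≫ f₂) ≫ a.act = fst T₁ T₂ ≫ f₁ from hδ, comp_lift_assoc, hg,
          ← a.lift_mul_act, inv_mul_cancel_left]
      refine ⟨(pullback.lift x₁ x₂ hx).left.base w, ?_⟩
      rw [← Scheme.Hom.comp_apply, Over.w (pullback.lift x₁ x₂ hx)]
      show (pullback.snd m.left δG ≫ V.hom).base w = _
      rw [Scheme.Hom.comp_apply, hw]
    · rintro _ ⟨w, rfl⟩
      refine ⟨c.left.base w, ?_, by rw [← Scheme.Hom.comp_apply, Over.w c]⟩
      have h1 : c ≫ δ = 1 := (existsUnique_diff hT.1 (pullback.snd f₁ f₂ ≫ f₂) (pullback.snd f₁ f₂ ≫ f₂)).unique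
        (by
          have := congrArg (c ≫ ·) hδ
          simp only [comp_lift_assoc] at this
          simp only [c, lift_fst_assoc, lift_snd_assoc, pullback.condition] at this
          exact this) (a.lift_one_act _)
      let h1' : (Over.map p).obj W ⟶ G₁ ⊗ G₂ := 1
      have h2 : h1'.left ≫ m.left = c.left ≫ δG := by
        have e : h1' ≫ m = 1 := by
          simp only [m, h1', MonObj.comp_mul, ← Category.assoc]
          rw [show (1 : (Over.map p).obj W ⟶ G₁ ⊗ G₂) ≫ fst G₁ G₂ = 1 from MonObj.one_comp _,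
            show (1 : (Over.map p).obj W ⟶ G₁ ⊗ G₂) ≫ snd G₁ G₂ = 1 from MonObj.one_comp _,
            MonObj.one_comp, MonObj.one_comp, _root_.mul_one]
        have e' : (Over.mapPullbackAdj p).homEquiv W G (h1' ≫ m) = c ≫ δ := by
          rw [e, h1]
          have h := AlgGrp.Action.homEquiv_mul p (G := G) (1 : (Over.map p).obj W ⟶ G) 1
          rw [_root_.mul_one] at h
          exact mul_left_cancel (a := (Over.mapPullbackAdj p).homEquiv W G 1) (by rw [_root_.mul_one]; exact h.symm)
        have := congrArg (fun φ => φ.left ≫ pullback.fst G.hom p) e'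
        simp [Adjunction.homEquiv_unit, Over.mapPullbackAdj] at this
        rw [pullback.lift_fst] at this
        exact this
      refine ⟨h1'.left.base w, ?_⟩
      rw [← Scheme.Hom.comp_apply, h2]
      rfl
  haveI : Flat V.hom := by
    show Flat (pullback.fst T₁.hom T₂.hom ≫ T₁.hom)
    infer_instance
  haveI : LocallyOfFinitePresentation V.hom := by
    show LocallyOfFinitePresentation (pullback.fst T₁.hom T₂.hom ≫ T₁.hom)
    infer_instance
  have hopen : IsOpen (Set.range W.hom.base) := himage ▸ V.hom.isOpenMap _ hO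
  have hclosed : IsClosed (Set.range W.hom.base) := by
    haveI : IsFinite f₁.left := by
      haveI : IsFinite (f₁.left ≫ T.hom) := by rw [Over.w f₁]; infer_instance
      exact IsFinite.of_comp f₁.left T.hom
    haveI : IsFinite W.hom := by
      rw [← Over.w (pullback.snd f₁ f₂)]
      haveI : IsFinite (pullback.snd f₁ f₂).left :=
        MorphismProperty.of_isPullback (P := @IsFinite)
          ((IsPullback.of_hasPullback f₁ f₂).map (Over.forget X)) ‹IsFinite f₁.left›
      infer_instance
    exact W.hom.isClosedMap.isClosed_range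
  refine ⟨fun x => ?_⟩
  have : Set.range W.hom.base = Set.univ := by
    refine IsClopen.eq_univ ⟨hclosed, hopen⟩ ?_
    obtain ⟨κ⟩ := ‹Nonempty K.left›
    exact ⟨_, ⟨(pullback.lift t₁ t₂ ht).left.base κ, rfl⟩⟩
  exact Set.eq_univ_iff_forall.1 this x

end Groth.Agent.PrincFP
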